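import Groth.Agent.Lib.CurveSSVanish
import Groth.Agent.Lib.CurveTwist
import Groth.Agent.IntNum.CurveAmple
import Groth.Agent.KFlatLib.Perfect.Tensor

/-!
Linear bounds for the sections of bundles on curves with bounded slopes of subsheaves.
-/

set_option linter.style.haveILetI false
set_option linter.unusedSectionVars false
set_option backward.isDefEq.respectTransparency false
set_option backward.isDefEq.respectTransparency.types false
set_option synthInstance.maxHeartbeats 100000

universe u

open CategoryTheory CategoryTheory.Limits AlgebraicGeometry TopologicalSpace Opposite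
open Groth.Agent.PnCoh.Finite (mapLin)

namespace Groth.Agent.SlopeBound

open Groth.Agent.CurveBundle Groth.Agent.CurveSlope Groth.Agent.CurveStable Groth.Agent.CurveDuality

variable {X : Scheme.{u}}

theorem isFinLocFreeOfRank_freeMod (n : ℕ) :
    FlatMod.IsFinLocFreeOfRank n (FlatMod.freeMod X n) := fun _ =>
  ⟨⊤, trivial, ⟨(Scheme.Modules.restrictFunctorIsoPullback _).app _ ≪≫ KFlatLib.pullFreeIso _ n⟩⟩

variable (k : Type u) [Field k] [X.Over (Spec (CommRingCat.of k))] [IsIntegral X]
  [IsProper (X ↘ Spec (CommRingCat.of k))] [Smooth (X ↘ Spec (CommRingCat.of k))]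

theorem dg_line {I : X.Modules} (hI : PicF.IsInvertible I) :
    rk I = 1 ∧ dg k I = Curv2.deg k X I 1 :=
  ⟨rk_eq (InvEnd.isFinLocFreeOfRank_one hI), (deg_eq_dg k (InvEnd.isFinLocFreeOfRank_one hI)).symm⟩

/-- Twists of subbundles back to the untwisted bundle. -/
theorem exists_untwist (hdim : topologicalKrullDim X = 1) {P F K : X.Modules}
    (hP : PicF.IsInvertible P) (hK : FlatMod.IsFinLocFree K)
    (i : K ⟶ (DCoh.tensorBi.obj P).obj F) [Mono i] :
    ∃ (K' : X.Modules) (i' : K' ⟶ F), Mono i' ∧ FlatMod.IsFinLocFree K' ∧ rk K' = rk K ∧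
      dg k K' = dg k K - (rk K : ℤ) * Curv2.deg k X P 1 := by
  obtain ⟨D, hD, hdD, ⟨e⟩⟩ := exists_inverse_deg k hdim hP
  have hDf := isFinLocFree_of_rank (InvEnd.isFinLocFreeOfRank_one hD)
  have e' : (DCoh.tensorBi.obj D).obj P ≅ Coh.structureModule X := CurveTensor.commIso D P ≪≫ e
  haveI : Mono ((DCoh.tensorBi.obj D).map i) :=
    (CurveTensor.shortExact_tensor hDf _ _ _ (shortExact_cokernel_of_mono i)).mono_f
  obtain ⟨h1, h2⟩ := dg_tensor_line k hdim hD hK
  refine ⟨_, (DCoh.tensorBi.obj D).map i ≫ ((CurveRR.cancelIso e').app F).hom, ?_,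
    KFlatLib.isFinLocFree_tensor hDf hK, h1, ?_⟩
  · infer_instance
  · rw [h2, hdD]
    ring

theorem finrank_h0_congr {M N : X.Modules} (e : M ≅ N) :
    Module.finrank k (Coh.HH X M 0) = Module.finrank k (Coh.HH X N 0) :=
  (CurveCohLib.hhEquiv (k := k) e 0).finrank_eq

theorem finrank_h0_mono {M N : X.Modules} (i : M ⟶ N) [Mono i] (hN : Coh.IsCoh N) :
    Module.finrank k (Coh.HH X M 0) ≤ Module.finrank k (Coh.HH X N 0) := by
  haveI := S0002.result k X N hN 0
  exact LinearMap.finrank_le_finrank_of_injective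
    (LinearMap.ker_eq_bot.mp (Euler.ker_mapLin_f_zero (k := k) (shortExact_cokernel_of_mono i)))

variable [IsAlgClosed k]

/-- Slopes below `n` bound the sections by `n` times the rank. -/
theorem finrank_h0_le (hdim : topologicalKrullDim X = 1) : ∀ (n : ℕ) (V : X.Modules),
    FlatMod.IsFinLocFree V →
    (∀ (K : X.Modules) (i : K ⟶ V), Mono i → FlatMod.IsFinLocFree K →
      dg k K ≤ ((n : ℤ) - 1) * (rk K : ℤ)) →
    Module.finrank k (Coh.HH X V 0) ≤ n * rk V := by
  intro n
  induction n with
  | zero =>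
    intro V hV h
    by_contra h0
    obtain ⟨s, hs⟩ := CurveRR.exists_hom_ne_zero k (P := V) (by omega)
    have hO := CurveDeg.isInvertible_structureModule (X := X)
    have hOf := isFinLocFree_of_rank (InvEnd.isFinLocFreeOfRank_one hO)
    obtain ⟨h1, h2⟩ := dg_line k hO
    haveI := CurveSection.mono_of_ne_zero k hdim.le hOf h1 hV s hs
    have := h _ s inferInstance hOf
    rw [h1, h2, CurveDeg.deg_structureModule] at this
    norm_num at this
  | succ n ih =>
    intro V hV h
    obtain ⟨p, hp, -⟩ := CurveTwist.exists_closed_notMem k hdim (Z := (∅ : Set X)) Set.finite_empty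
    have hI := CurvePoint.isInvertible_ptMod p hp k hdim
    have hIf := isFinLocFree_of_rank (InvEnd.isFinLocFreeOfRank_one hI)
    have ht := (CurvePoint.finrank_twist p hp k (isFinLocFreeOfRank_rk hV)).1
    have hc := CurveTensor.commIso V (CurvePoint.ptMod p hp)
    rw [finrank_h0_congr k hc] at ht
    have hn : Module.finrank k
        (Coh.HH X ((DCoh.tensorBi.obj (CurvePoint.ptMod p hp)).obj V) 0) ≤ n * rk V := by
      refine (ih _ (KFlatLib.isFinLocFree_tensor hIf hV) fun K i hi hK => ?_).trans ?_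
      · haveI := hi
        obtain ⟨K', i', hi', hK', hr, hd⟩ := exists_untwist k hdim hI hK i
        have := h K' i' hi' hK'
        rw [hd, hr, CurvePoint.deg_ptMod p hp k] at this
        push_cast at this
        linarith
      · rw [(dg_tensor_line k hdim hI hV).1]
    rw [Nat.succ_mul]
    omega

/-- Riemann-Roch when the first cohomology vanishes. -/
theorem finrank_h0_eq (hdim : topologicalKrullDim X = 1) {V : X.Modules}
    (hV : FlatMod.IsFinLocFree V) (h1 : Subsingleton (Coh.HH X V 1)) :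
    (Module.finrank k (Coh.HH X V 0) : ℤ) =
      dg k V + (rk V : ℤ) * (1 - (Curv2.genus k X : ℤ)) := by
  have hχ := CurveRR.euler_eq_h0_sub_h1 k hdim.le (coh_of_free k hV).1
  haveI := h1
  rw [Module.finrank_zero_of_subsingleton (R := k) (M := Coh.HH X V 1)] at hχ
  unfold dg
  rw [CurveRR.euler_structureModule k hdim.le, hχ]
  push_cast
  ring

/-- Large bounded slopes force the Riemann-Roch bound on sections. -/
theorem finrank_h0_slope (hdim : topologicalKrullDim X = 1) (R r : ℕ) (hr : 0 < r) (D : ℤ)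
    (hD : 2 * (r : ℤ) * ((R : ℤ) + 2) * ((Curv2.genus k X : ℤ) + 1) ≤ D)
    (V : X.Modules) (hV : FlatMod.IsFinLocFree V) (hR : rk V ≤ R)
    (h : ∀ (K : X.Modules) (i : K ⟶ V), Mono i → FlatMod.IsFinLocFree K →
      dg k K * (r : ℤ) ≤ D * (rk K : ℤ)) :
    (Module.finrank k (Coh.HH X V 0) : ℤ) * (r : ℤ) ≤
      (rk V : ℤ) * (D + (r : ℤ) * (1 - (Curv2.genus k X : ℤ))) := by
  haveI : ConnectedSpace X := inferInstance
  haveI := CurveCohLib.isNoetherian_of_proper (k := k) (X := X)
  have hO := CurveCohLib.finrank_h0_eq_one k X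
  by_cases h1 : Subsingleton (Coh.HH X V 1)
  · rw [finrank_h0_eq k hdim hV h1]
    have := h V (𝟙 V) inferInstance hV
    linarith
  · obtain ⟨I, π, hπ, hK, hI, hrk, hdI⟩ : ∃ (I : X.Modules) (π : V ⟶ I), Epi π ∧
        FlatMod.IsFinLocFree (kernel π) ∧ PicF.IsInvertible I ∧ rk V = rk (kernel π) + 1 ∧
        Curv2.deg k X I 1 ≤ 2 * (Curv2.genus k X : ℤ) - 2 := by
      by_contra hc
      exact h1 (subsingleton_HH_one_of_quot k hO hdim hV fun I π hπ hK hI hrk _ =>
        lt_of_not_ge fun hle => hc ⟨I, π, hπ, hK, hI, hrk, hle⟩)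
    haveI := hπ
    have hI1 := InvEnd.isFinLocFreeOfRank_one hI
    have hIf := isFinLocFree_of_rank hI1
    obtain ⟨hrI, hdgI⟩ := dg_line k hI
    have hsum := finrank_h0_mid_le k (shortExact_kernel_of_epi π) (coh_of_free k hV)
      (coh_of_free k hIf)
    dsimp only at hsum
    set g := Curv2.genus k X with hg
    have hD0 : 0 ≤ D := le_trans (by positivity) hD
    obtain ⟨q, hq⟩ : ∃ q : ℕ, (q : ℤ) = D / (r : ℤ) :=
      ⟨_, Int.toNat_of_nonneg (Int.ediv_nonneg hD0 (by omega))⟩
    have hqle : (q : ℤ) * r ≤ D := hq ▸ Int.ediv_mul_le D (by omega)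
    have hqlt : D < ((q : ℤ) + 1) * r := hq ▸ Int.lt_ediv_add_one_mul_self D (by omega)
    have hKb : Module.finrank k (Coh.HH X (kernel π) 0) ≤ (q + 2) * rk (kernel π) := by
      refine finrank_h0_le k hdim _ _ hK fun K i hi hKf => ?_
      have h' := h K (i ≫ kernel.ι π) inferInstance hKf
      have hr' : (0 : ℤ) < r := by exact_mod_cast hr
      refine le_of_mul_le_mul_right (h'.trans ?_) hr'
      push_cast
      have := mul_le_mul_of_nonneg_right hqlt.le (Int.natCast_nonneg (rk K))
      linarith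
    have hIb : Module.finrank k (Coh.HH X I 0) ≤ (2 * g + 1) * rk I := by
      refine finrank_h0_le k hdim _ _ hIf fun K i hi hKf => ?_
      have hle : rk K ≤ 1 := hrI ▸ rk_le_of_mono k i (coh_of_free k hIf)
      rcases Nat.le_one_iff_eq_zero_or_eq_one.1 hle with h0 | h0
      · rw [h0, dg_eq_zero_of_isZero k (isZero_of_rk_zero hKf h0)]
        simp
      · have hK1 : FlatMod.IsFinLocFreeOfRank 1 K := h0 ▸ isFinLocFreeOfRank_rk hKf
        have hi0 : i ≠ 0 := fun he => by
          haveI := hi
          have hz : IsZero K := IsZero.of_mono_eq_zero i he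
          rw [rk_eq_zero_of_isZero hz] at h0
          omega
        have := (CurveDeg.deg_le_and_isIso k hdim.le (isInvertible_of_rank_one hK1) hI i hi0).1
        rw [← deg_eq_dg k hK1, h0]
        push_cast
        omega
    rw [hrI, mul_one] at hIb
    rw [hrk] at hR ⊢
    push_cast
    have hh : (Module.finrank k (Coh.HH X V 0) : ℤ) ≤
        ((q : ℤ) + 2) * (rk (kernel π) : ℤ) + (2 * (g : ℤ) + 1) := by
      exact_mod_cast hsum.trans (Nat.add_le_add hKb hIb)
    have hR' : (rk (kernel π) : ℤ) + 1 ≤ R := by exact_mod_cast hR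
    have := mul_le_mul_of_nonneg_right hh (Int.natCast_nonneg r)
    have := mul_le_mul_of_nonneg_right hqle (Int.natCast_nonneg (rk (kernel π)))
    have := mul_le_mul_of_nonneg_left hR'
      (show (0 : ℤ) ≤ (r : ℤ) * ((g : ℤ) + 1) by positivity)
    have : (0 : ℤ) ≤ (r : ℤ) * ((g : ℤ) + 1) * R := by positivity
    have : (0 : ℤ) ≤ (r : ℤ) * (g : ℤ) := by positivity
    linarith

end Groth.Agent.SlopeBound
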