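import Groth.Agent.SlopeBound.Basic

/-!
Sections of modules as maps out of free modules: combinations, and degrees of free modules.
-/

set_option linter.style.haveILetI false
set_option linter.unusedSectionVars false
set_option backward.isDefEq.respectTransparency false
set_option backward.isDefEq.respectTransparency.types false
set_option synthInstance.maxHeartbeats 100000

universe u

open CategoryTheory CategoryTheory.Limits AlgebraicGeometry TopologicalSpace Opposite
open Groth.Agent.PnCoh.Finite (mapLin)

namespace Groth.Agent.SlopeBound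

open Groth.Agent.CurveBundle Groth.Agent.CurveSlope Groth.Agent.CurveStable Groth.Agent.CurveDuality
open Groth.Agent.CurveSpecial (homOfClass homOfClass_one homOfClass_add homOfClass_smul)

variable {X : Scheme.{u}} (k : Type u) [Field k] [X.Over (Spec (CommRingCat.of k))]

/-- The class of a map out of the structure sheaf. -/
noncomputable def toClass {P : X.Modules} (s : Coh.structureModule X ⟶ P) : Coh.HH X P 0 :=
  (Sheaf.H.equiv₀ (Coh.toAb P) isTerminalTop).symm (s.app ⊤ (H23.Frame.one ⊤) : Γ(P, ⊤))

theorem homOfClass_toClass {P : X.Modules} (s : Coh.structureModule X ⟶ P) :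
    homOfClass (toClass s) = s :=
  CurveRR.hom_ext_one ((homOfClass_one _).trans
    ((Sheaf.H.equiv₀ (Coh.toAb P) isTerminalTop).apply_symm_apply _))

theorem homOfClass_injective {P : X.Modules} {s t : Coh.HH X P 0} (h : homOfClass s = homOfClass t) :
    s = t := by
  refine (Sheaf.H.equiv₀ (Coh.toAb P) isTerminalTop).injective ?_
  exact (homOfClass_one s).symm.trans ((congrArg (fun φ => Scheme.Modules.Hom.app φ ⊤ (H23.Frame.one ⊤)) h).trans
    (homOfClass_one t))

theorem homOfClass_zero {P : X.Modules} : homOfClass (0 : Coh.HH X P 0) = 0 := by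
  have h := homOfClass_add (0 : Coh.HH X P 0) 0
  rw [add_zero] at h
  exact left_eq_add.mp h

theorem homOfClass_mapLin {P Q : X.Modules} (j : P ⟶ Q) (t : Coh.HH X P 0) :
    homOfClass (mapLin k j 0 t) = homOfClass t ≫ j := by
  refine CurveRR.hom_ext_one ?_
  rw [homOfClass_one]
  show _ = j.app ⊤ ((homOfClass t).app ⊤ (H23.Frame.one ⊤))
  rw [homOfClass_one]
  exact (Sheaf.H.equiv₀_naturality isTerminalTop ((QCoh.toAbFunctor X).map j) t).symm

/-- A scalar as an endomorphism of the structure sheaf. -/
noncomputable abbrev sc (c : k) : Coh.structureModule X ⟶ Coh.structureModule X :=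
  Formal.smulMod k (Coh.structureModule X) c

theorem homOfClass_smul' {P : X.Modules} (c : k) (t : Coh.HH X P 0) :
    homOfClass (c • t) = sc k c ≫ homOfClass t :=
  (homOfClass_smul k c t).trans (FFun.smulMod_naturality _ c).symm

theorem homOfClass_sum {P : X.Modules} {ι : Type*} (s : Finset ι) (c : ι → k) (t : ι → Coh.HH X P 0) :
    homOfClass (∑ i ∈ s, c i • t i) = ∑ i ∈ s, sc k (c i) ≫ homOfClass (t i) := by
  classical
  induction s using Finset.induction_on with
  | empty => simp [homOfClass_zero]
  | insert a s ha ih => rw [Finset.sum_insert ha, Finset.sum_insert ha, homOfClass_add, homOfClass_smul', ih]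

/-- The map out of a free module given by classes. -/
noncomputable def ev {P : X.Modules} {n : ℕ} (t : Fin n → Coh.HH X P 0) : FlatMod.freeMod X n ⟶ P :=
  Sigma.desc fun i => homOfClass (t i)

theorem incl_ev {P : X.Modules} {n : ℕ} (t : Fin n → Coh.HH X P 0) (i : Fin n) :
    H23.Frame.incl X n i ≫ ev t = homOfClass (t i) :=
  Sigma.ι_desc _ _

theorem ev_eq_sum {P : X.Modules} {n : ℕ} (t : Fin n → Coh.HH X P 0) :
    ev t = ∑ i, H23.Frame.proj X n i ≫ homOfClass (t i) := by
  conv_lhs => rw [← Category.id_comp (ev t), ← H23.Frame.total X n]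
  rw [Preadditive.sum_comp]
  simp only [Category.assoc, incl_ev]

/-- The map into a free module with given components. -/
noncomputable def coev {G : X.Modules} {n : ℕ} (a : Fin n → (G ⟶ Coh.structureModule X)) :
    G ⟶ FlatMod.freeMod X n :=
  ∑ i, a i ≫ H23.Frame.incl X n i

theorem coev_proj {G : X.Modules} {n : ℕ} (a : Fin n → (G ⟶ Coh.structureModule X)) (j : Fin n) :
    coev a ≫ H23.Frame.proj X n j = a j := by
  rw [coev, Preadditive.sum_comp, Finset.sum_eq_single j]
  · rw [Category.assoc, H23.Frame.incl_proj, if_pos rfl, Category.comp_id]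
  · intro i _ hi
    rw [Category.assoc, H23.Frame.incl_proj, if_neg hi, comp_zero]
  · simp

theorem coev_ev {G P : X.Modules} {n : ℕ} (a : Fin n → (G ⟶ Coh.structureModule X))
    (t : Fin n → Coh.HH X P 0) : coev a ≫ ev t = ∑ i, a i ≫ homOfClass (t i) := by
  rw [coev, Preadditive.sum_comp]
  simp only [Category.assoc, incl_ev]

/-- The class of a coordinate of the free module. -/
noncomputable def coord (X : Scheme.{u}) (n : ℕ) (i : Fin n) : Coh.HH X (FlatMod.freeMod X n) 0 :=
  toClass (H23.Frame.incl X n i)

theorem mapLin_ev {P : X.Modules} {n : ℕ} (t : Fin n → Coh.HH X P 0) (i : Fin n) :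
    mapLin k (ev t) 0 (coord X n i) = t i := by
  refine homOfClass_injective ?_
  rw [homOfClass_mapLin, coord, homOfClass_toClass, incl_ev]

variable [IsIntegral X] [IsProper (X ↘ Spec (CommRingCat.of k))]

theorem euler_freeMod : ∀ n : ℕ,
    Curv2.euler k X (FlatMod.freeMod X n) = (n : ℤ) * Curv2.euler k X (Coh.structureModule X) := by
  haveI := CurveCohLib.isNoetherian_of_proper (k := k) (X := X)
  intro n
  induction n with
  | zero =>
    have hz : IsZero (FlatMod.freeMod X 0) := (IsZero.iff_id_eq_zero _).2 (Sigma.hom_ext _ _ fun i => i.elim0)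
    rw [euler_eq_zero_of_isZero k hz]; simp
  | succ n ih =>
    let f : FlatMod.freeMod X n ⟶ FlatMod.freeMod X (n + 1) :=
      Sigma.desc fun i => H23.Frame.incl X (n + 1) i.castSucc
    let r : FlatMod.freeMod X (n + 1) ⟶ FlatMod.freeMod X n :=
      Sigma.desc fun j => Fin.lastCases 0 (fun i => H23.Frame.incl X n i) j
    have w : f ≫ H23.Frame.proj X (n + 1) (Fin.last n) = 0 := by
      refine Sigma.hom_ext _ _ fun i => ?_
      show H23.Frame.incl X n i ≫ f ≫ _ = _
      rw [comp_zero, ← Category.assoc, show H23.Frame.incl X n i ≫ f = _ from Sigma.ι_desc _ _,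
        H23.Frame.incl_proj, if_neg i.castSucc_lt_last.ne]
    have h1 : f ≫ r = 𝟙 _ := by
      refine Sigma.hom_ext _ _ fun i => ?_
      show H23.Frame.incl X n i ≫ f ≫ r = _
      rw [← Category.assoc, show H23.Frame.incl X n i ≫ f = _ from Sigma.ι_desc _ _,
        show H23.Frame.incl X (n + 1) i.castSucc ≫ r = _ from Sigma.ι_desc _ _, Fin.lastCases_castSucc,
        Category.comp_id]
      rfl
    have hsp : (ShortComplex.mk f (H23.Frame.proj X (n + 1) (Fin.last n)) w).Splitting :=
      { r := r
        s := H23.Frame.incl X (n + 1) (Fin.last n)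
        f_r := h1
        s_g := by rw [H23.Frame.incl_proj, if_pos rfl]
        id := by
          refine Sigma.hom_ext _ _ fun j => ?_
          show H23.Frame.incl X (n + 1) j ≫ (_ + _) = H23.Frame.incl X (n + 1) j ≫ 𝟙 _
          rw [Preadditive.comp_add, Category.comp_id, ← Category.assoc, ← Category.assoc,
            show H23.Frame.incl X (n + 1) j ≫ r = _ from Sigma.ι_desc _ _, H23.Frame.incl_proj]
          induction j using Fin.lastCases with
          | last => rw [Fin.lastCases_last, zero_comp, zero_add, if_pos rfl, Category.id_comp]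
          | cast i =>
            rw [Fin.lastCases_castSucc, if_neg i.castSucc_lt_last.ne, zero_comp, add_zero,
              show H23.Frame.incl X n i ≫ f = _ from Sigma.ι_desc _ _] }
    have hc : ∀ m, Coh.IsCoh (FlatMod.freeMod X m) := fun m =>
      CurveDeg.isCoh_of_isFinLocFree (isFinLocFree_of_rank (isFinLocFreeOfRank_freeMod m))
    rw [euler_add' k f _ w hsp.shortExact (hc n) (hc (n + 1)) QCoh.isCoh_structureModule', ih]
    push_cast
    ring

theorem dg_freeMod (n : ℕ) : dg k (FlatMod.freeMod X n) = 0 := by
  unfold dg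
  rw [rk_eq (isFinLocFreeOfRank_freeMod n), euler_freeMod k n]
  ring

end Groth.Agent.SlopeBound
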